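import Cfsg.Prelude.Def_Characters
import Cfsg.Agent.Lib.CharDegree.Basic
import Cfsg.Agent.Lib.Blocks.Union

/-!
# Order of a quotient with the degrees of `PSL(2, p²)`
-/

set_option autoImplicit false

namespace CfsgLib.Recog.PSLDegreeMultiset

open Cfsg CfsgLib.Char CfsgLib.CharDegree
open scoped _root_.Classical

/-- The shared hypotheses on the degrees. -/
structure Degs (G : Type*) [Group G] (q : ℕ) : Prop where
  cases : ∀ χ : IrrCharacter G, charDegree (χ : G → ℂ) = 1 ∨ charDegree (χ : G → ℂ) = q ∨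
    2 * charDegree (χ : G → ℂ) = q + 1 ∨ charDegree (χ : G → ℂ) = q + 1 ∨
    charDegree (χ : G → ℂ) + 1 = q
  unique : ∀ χ φ : IrrCharacter G, charDegree (χ : G → ℂ) = charDegree (φ : G → ℂ) →
    (charDegree (χ : G → ℂ) = 1 ∨ charDegree (χ : G → ℂ) = q) → χ = φ

theorem Degs.quotient {G : Type*} [Group G] [Finite G] {q : ℕ} (h : Degs G q) (N : Subgroup G)
    [N.Normal] : Degs (G ⧸ N) q :=
  ⟨fun ψ => h.cases (infl N ψ), fun ψ φ e e' => infl_injective N (h.unique _ _ e e')⟩

/-- The arithmetic core. -/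
theorem arith {p q L a b c s : ℕ} (hp : p.Prime) (h3 : 3 ≤ p) (hq : q = p ^ 2) (hL : 1 < L)
    (hdvd : 2 * L ∣ q * (q ^ 2 - 1)) (hs : s ≤ 1)
    (hsum : 4 * L = 4 + 4 * a * (q + 1) ^ 2 + 4 * b * (q - 1) ^ 2 + c * (q + 1) ^ 2 + 4 * s * q ^ 2)
    (hplus : a + c ≠ 0 → (q + 1) / 2 ∣ L) (hminus : b ≠ 0 → q - 1 ∣ L) (hst : s ≠ 0 → q ∣ L) :
    2 * L = q * (q ^ 2 - 1) := by
  obtain ⟨h, hh⟩ : ∃ h, q + 1 = 2 * h := by
    have hodd : p % 2 = 1 := (hp.eq_two_or_odd).resolve_left (by omega)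
    have : q % 2 = 1 := by rw [hq, Nat.pow_mod, hodd]
    exact ⟨(q + 1) / 2, by omega⟩
  have hhh : (q + 1) / 2 = h := by omega
  rw [hhh] at hplus
  have h9 : 9 ≤ q := by rw [hq]; nlinarith
  have hh5 : 5 ≤ h := by omega
  have hq1 : q - 1 = 2 * (h - 1) := by omega
  have hhodd : h % 2 = 1 := by
    have hodd : p % 2 = 1 := (hp.eq_two_or_odd).resolve_left (by omega)
    obtain ⟨k, hk⟩ : Odd p := Nat.odd_iff.2 hodd
    have : q = 4 * (k * k + k) + 1 := by rw [hq, hk]; ring
    omega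
  -- congruences of the order
  have hz : (4 * L : ℤ) = 4 + 4 * a * ((q : ℤ) + 1) ^ 2 + 4 * b * ((q : ℤ) - 1) ^ 2 +
      c * ((q : ℤ) + 1) ^ 2 + 4 * s * (q : ℤ) ^ 2 := by
    have h' := congrArg (fun x : ℕ => (x : ℤ)) hsum
    simp only [Nat.cast_add, Nat.cast_mul, Nat.cast_pow, Nat.cast_sub (show 1 ≤ q by omega)] at h'
    push_cast at h'
    exact h'
  have hzh : (q : ℤ) + 1 = 2 * (h : ℤ) := by exact_mod_cast hh
  have hb0 : b ≠ 0 := by
    intro hb
    by_cases hac : a + c = 0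
    · have ha : a = 0 := by omega
      have hc : c = 0 := by omega
      subst ha hb hc
      rcases Nat.le_one_iff_eq_zero_or_eq_one.1 hs with rfl | rfl
      · omega
      · have e : L = 1 + q ^ 2 := by linarith
        have := hst one_ne_zero
        rw [e] at this
        have h1 : q ∣ 1 := (Nat.dvd_add_left (Dvd.intro q (sq q).symm)).1 this
        have := Nat.le_of_dvd one_pos h1
        omega
    · obtain ⟨k, hk⟩ := hplus hac
      subst hb
      have hd : (h : ℤ) ∣ 1 + s := by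
        have e : (L : ℤ) = 1 + a * (2 * (h : ℤ)) ^ 2 + c * (h : ℤ) ^ 2 + s * (2 * (h : ℤ) - 1) ^ 2 := by
          have e' : (q : ℤ) = 2 * h - 1 := by linarith
          rw [e'] at hz
          push_cast at hz
          linarith
        refine ⟨(k : ℤ) - (4 * a * h + c * h + s * (4 * h - 4)), ?_⟩
        have ek : (L : ℤ) = h * k := by exact_mod_cast hk
        linear_combination ek - e
      have := Nat.le_of_dvd (by omega) (show h ∣ 1 + s by exact_mod_cast hd)
      omega
  obtain ⟨k, hk⟩ := hminus hb0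
  have hac : a + c ≠ 0 := by
    intro hac
    have ha : a = 0 := by omega
    have hc : c = 0 := by omega
    subst ha hc
    have hd : ((q - 1 : ℕ) : ℤ) ∣ 1 + s := by
      have ek : (L : ℤ) = ((q - 1 : ℕ) : ℤ) * k := by exact_mod_cast hk
      rw [Nat.cast_sub (show 1 ≤ q by omega), Nat.cast_one] at ek ⊢
      push_cast at hz
      refine ⟨(k : ℤ) - b * ((q : ℤ) - 1) - s * ((q : ℤ) + 1), ?_⟩
      linarith
    have := Nat.le_of_dvd (by omega) (show q - 1 ∣ 1 + s by exact_mod_cast hd)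
    omega
  -- both families
  have hcop : Nat.Coprime h (q - 1) := by
    refine Nat.coprime_of_dvd fun r hr h1 h2 => ?_
    have h3 : r ∣ (q + 1) - (q - 1) := Nat.dvd_sub (hh ▸ h1.mul_left 2) h2
    rw [show (q + 1) - (q - 1) = 2 by omega] at h3
    obtain rfl := (Nat.prime_dvd_prime_iff_eq hr Nat.prime_two).1 h3
    omega
  obtain ⟨m, hm⟩ := hcop.mul_dvd_of_dvd_of_dvd (hplus hac) (hminus hb0)
  have hmq : m ∣ q := by
    have e : q * (q ^ 2 - 1) = 2 * (h * (q - 1)) * q := by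
      rw [show q ^ 2 - 1 = (q + 1) * (q - 1) by rw [← Nat.sq_sub_sq, one_pow], hh]; ring
    rw [e, hm, show 2 * (h * (q - 1) * m) = 2 * (h * (q - 1)) * m by ring] at hdvd
    exact Nat.dvd_of_mul_dvd_mul_left
      (Nat.mul_pos two_pos (Nat.mul_pos (by omega) (by omega))) hdvd
  obtain ⟨j, hj, rfl⟩ := (Nat.dvd_prime_pow hp).1 (hq ▸ hmq)
  have hfull : q * (q ^ 2 - 1) = 2 * (h * (q - 1) * q) := by
    rw [show q ^ 2 - 1 = (q + 1) * (q - 1) by rw [← Nat.sq_sub_sq, one_pow], hh]; ring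
  by_cases hj2 : j = 2
  · rw [hfull, hm, hj2, ← hq]
  exfalso
  have hmp : p ^ j ≤ p := by
    calc p ^ j ≤ p ^ 1 := Nat.pow_le_pow_right hp.pos (by omega)
      _ = p := pow_one p
  have hs0 : s = 0 := by
    by_contra hs0
    have hqc : Nat.Coprime q (h * (q - 1)) := by
      refine Nat.Coprime.mul_right ?_ ?_
      · refine Nat.coprime_of_dvd fun r hr h1 h2 => ?_
        have h3 : r ∣ q + 1 := hh ▸ h2.mul_left 2
        exact hr.not_dvd_one ((Nat.dvd_add_right h1).1 h3)
      · refine Nat.coprime_of_dvd fun r hr h1 h2 => ?_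
        have h3 : r ∣ q - (q - 1) := Nat.dvd_sub h1 h2
        rw [show q - (q - 1) = 1 by omega] at h3
        exact hr.not_dvd_one h3
    have := Nat.le_of_dvd (pow_pos hp.pos _) (hqc.dvd_of_dvd_mul_left (hm ▸ hst hs0))
    have : p < q := by rw [hq]; nlinarith
    omega
  subst hs0
  set m := p ^ j with hmdef
  set x := 4 * a + 4 * b + c with hx
  have hqz : (q : ℤ) = (p : ℤ) ^ 2 := by exact_mod_cast hq
  have hL' : (4 * L : ℤ) = 2 * ((q : ℤ) ^ 2 - 1) * m := by
    have e : (L : ℤ) = (h : ℤ) * ((q - 1 : ℕ) : ℤ) * (m : ℤ) := by exact_mod_cast hm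
    rw [Nat.cast_sub (show 1 ≤ q by omega), Nat.cast_one] at e
    linear_combination 4 * e - 2 * ((q : ℤ) - 1) * (m : ℤ) * hzh
  have hq8 : (9 : ℤ) ≤ q := by exact_mod_cast h9
  have hmz : (m : ℤ) ≤ p := by exact_mod_cast hmp
  -- the bound
  have hbound : (x : ℤ) * ((q : ℤ) - 1) < 2 * ((q : ℤ) + 1) * m := by
    have hle : (x : ℤ) * ((q : ℤ) - 1) ^ 2 < 2 * ((q : ℤ) ^ 2 - 1) * m := by
      have hxz : (x : ℤ) = 4 * a + 4 * b + c := by rw [hx]; push_cast; ring
      have hqq : (0 : ℤ) ≤ (q : ℤ) := by linarith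
      rw [← hL', hz, hxz]
      push_cast
      nlinarith [mul_nonneg (show (0 : ℤ) ≤ 4 * a + c by positivity) hqq]
    by_contra hcon
    push Not at hcon
    have := mul_le_mul_of_nonneg_right hcon (show (0 : ℤ) ≤ (q : ℤ) - 1 by linarith)
    nlinarith
  -- the congruence modulo `q`
  have hmod : (q : ℤ) ∣ 4 + x + 2 * m := by
    refine ⟨2 * (q : ℤ) * m - ((4 * (a : ℤ) + c) * ((q : ℤ) + 2) + 4 * b * ((q : ℤ) - 2)), ?_⟩
    have hxz : (x : ℤ) = 4 * a + 4 * b + c := by rw [hx]; push_cast; ring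
    rw [hxz]
    push_cast at hz
    linear_combination hL' - hz
  obtain ⟨t, ht⟩ : q ∣ 4 + x + 2 * m := by exact_mod_cast hmod
  have hx4 : 4 ≤ x := by omega
  have hm1 : 1 ≤ m := Nat.pow_pos hp.pos
  rcases lt_or_ge p 5 with h5 | h5
  · obtain rfl : p = 3 := by
      rcases (show p = 3 ∨ p = 4 by omega) with h | h
      · exact h
      · exact absurd (h ▸ hp) (by decide)
    obtain rfl : q = 9 := by rw [hq]; norm_num
    have hb' : x * 8 < 20 * m := by
      have := hbound
      push_cast at this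
      exact_mod_cast (by linarith : (x : ℤ) * 8 < 20 * m)
    have hmj : m = 1 ∨ m = 3 := by
      rw [hmdef]
      rcases (show j = 0 ∨ j = 1 by omega) with rfl | rfl <;> simp
    omega
  · have hb' : (x : ℤ) ≤ 2 * p := by
      by_contra hcon
      push Not at hcon
      have h1 : (2 * (p : ℤ) + 1) * ((q : ℤ) - 1) ≤ x * ((q : ℤ) - 1) :=
        mul_le_mul_of_nonneg_right (by linarith) (by linarith)
      have h2 : 2 * ((q : ℤ) + 1) * m ≤ 2 * ((q : ℤ) + 1) * p :=
        mul_le_mul_of_nonneg_left hmz (by linarith)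
      have h5' : (5 : ℤ) ≤ p := by exact_mod_cast h5
      nlinarith
    have hxn : x ≤ 2 * p := by exact_mod_cast hb'
    have h5q : 4 + 4 * p < q := by rw [hq]; nlinarith
    rcases Nat.eq_zero_or_pos t with rfl | ht0
    · omega
    · have : q ≤ q * t := Nat.le_mul_of_pos_right _ ht0
      omega

/-- A nontrivial group of order dividing that of `PSL(2, p²)` with these degrees has full order. -/
theorem card_eq {T : Type*} [Group T] [Finite T] [Nontrivial T] {p q : ℕ} (hp : p.Prime)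
    (h3 : 3 ≤ p) (hq : q = p ^ 2) (hD : Degs T q) (hdvd : 2 * Nat.card T ∣ q * (q ^ 2 - 1)) :
    2 * Nat.card T = q * (q ^ 2 - 1) := by
  have := Fintype.ofFinite (IrrCharacter T)
  have h9 : 9 ≤ q := by rw [hq]; nlinarith
  let d : IrrCharacter T → ℕ := fun χ => charDegree (χ : T → ℂ)
  set S1 := Finset.univ.filter fun χ => d χ = 1 with hS1
  set SA := Finset.univ.filter fun χ => d χ = q + 1 with hSA
  set SB := Finset.univ.filter fun χ => d χ + 1 = q with hSB
  set SC := Finset.univ.filter fun χ => 2 * d χ = q + 1 with hSC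
  set SQ := Finset.univ.filter fun χ => d χ = q with hSQ
  have hdc : ∀ χ, d χ = 1 ∨ d χ = q ∨ 2 * d χ = q + 1 ∨ d χ = q + 1 ∨ d χ + 1 = q := hD.cases
  have hsum : ∑ χ, d χ ^ 2 = Nat.card T := by
    rw [← Nat.cast_inj (R := ℂ), ← sum_sq_degree, Nat.cast_sum]
    exact Finset.sum_congr rfl fun χ _ => by rw [Nat.cast_pow, cast_irrDegree]
  have hpt : ∀ χ, 4 * d χ ^ 2 = (if d χ = 1 then 4 else 0) +
      (if d χ = q + 1 then 4 * (q + 1) ^ 2 else 0) +
      (if d χ + 1 = q then 4 * (q - 1) ^ 2 else 0) +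
      (if 2 * d χ = q + 1 then (q + 1) ^ 2 else 0) + (if d χ = q then 4 * q ^ 2 else 0) := by
    intro χ
    rcases hdc χ with h | h | h | h | h
    · rw [if_pos h, if_neg (by omega), if_neg (by omega), if_neg (by omega), if_neg (by omega), h]
      norm_num
    · rw [if_neg (by omega), if_neg (by omega), if_neg (by omega), if_neg (by omega), if_pos h, h]
      ring
    · rw [if_neg (by omega), if_neg (by omega), if_neg (by omega), if_pos h, if_neg (by omega), ← h]
      ring
    · rw [if_neg (by omega), if_pos h, if_neg (by omega), if_neg (by omega), if_neg (by omega), h]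
      ring
    · rw [if_neg (by omega), if_neg (by omega), if_pos h, if_neg (by omega), if_neg (by omega),
        show d χ = q - 1 by omega]
      ring
  have h1 : S1.card = 1 := by
    refine Finset.card_eq_one.2 ⟨trivChar T, Finset.eq_singleton_iff_unique_mem.2
      ⟨Finset.mem_filter.2 ⟨Finset.mem_univ _, ?_⟩, fun χ hχ => ?_⟩⟩
    · simp [d, charDegree, trivChar_apply]
    · have e := (Finset.mem_filter.1 hχ).2
      refine hD.unique χ _ ?_ (Or.inl e)
      exact e.trans (by simp [charDegree, trivChar_apply])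
  have hs : SQ.card ≤ 1 := Finset.card_le_one.2 fun χ hχ φ hφ =>
    hD.unique χ φ ((Finset.mem_filter.1 hχ).2.trans (Finset.mem_filter.1 hφ).2.symm)
      (Or.inr (Finset.mem_filter.1 hχ).2)
  have hmain : 4 * Nat.card T = 4 + 4 * SA.card * (q + 1) ^ 2 +
      4 * SB.card * (q - 1) ^ 2 + SC.card * (q + 1) ^ 2 +
      4 * SQ.card * q ^ 2 := by
    rw [← hsum, Finset.mul_sum, Finset.sum_congr rfl fun χ _ => hpt χ]
    simp only [Finset.sum_add_distrib, ← Finset.sum_filter, Finset.sum_const, smul_eq_mul]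
    rw [← hS1, ← hSA, ← hSB, ← hSC, ← hSQ]
    rw [h1]
    ring
  have hdiv : ∀ χ, d χ ∣ Nat.card T := fun χ => CfsgLib.CharDegree.charDegree_dvd_card χ
  refine arith hp h3 hq Finite.one_lt_card hdvd hs hmain (fun hac => ?_) (fun hb => ?_) (fun h => ?_)
  · by_cases ha : SA.card = 0
    · obtain ⟨χ, hχ⟩ := Finset.card_pos.1 (show 0 < SC.card by omega)
      have := (Finset.mem_filter.1 hχ).2
      rw [show (q + 1) / 2 = d χ by omega]
      exact hdiv χ
    · obtain ⟨χ, hχ⟩ := Finset.card_pos.1 (Nat.pos_of_ne_zero ha)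
      have := (Finset.mem_filter.1 hχ).2
      refine dvd_trans ⟨2, ?_⟩ (hdiv χ)
      rw [this]
      have hodd : p % 2 = 1 := (hp.eq_two_or_odd).resolve_left (by omega)
      have : q % 2 = 1 := by rw [hq, Nat.pow_mod, hodd]
      omega
  · obtain ⟨χ, hχ⟩ := Finset.card_pos.1 (Nat.pos_of_ne_zero hb)
    have := (Finset.mem_filter.1 hχ).2
    rw [show q - 1 = d χ by omega]
    exact hdiv χ
  · obtain ⟨χ, hχ⟩ := Finset.card_pos.1 (Nat.pos_of_ne_zero h)
    have := (Finset.mem_filter.1 hχ).2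
    rw [← this]
    exact hdiv χ

end CfsgLib.Recog.PSLDegreeMultiset
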