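import Cfsg.Agent.Lib.Recog.PSLDegreeMultiset.Count
import Cfsg.Agent.Lib.Perm.ThreePrimeOrder.PrincipalValue
import Mathlib.GroupTheory.SpecificGroups.Cyclic
import Mathlib.GroupTheory.Sylow

/-!
# Centralisers of the elements of order `p`
-/

set_option autoImplicit false

namespace CfsgLib.Recog.PSLDegreeMultiset

open Cfsg CfsgLib.Char CfsgLib.CharDegree
open scoped _root_.Classical

variable {G : Type*} [Group G] [Finite G] {p q : ℕ}

/-- If every nontrivial character is zero at `g ≠ 1` or has degree divisible by `k`, then `k = 1`. -/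
theorem eq_one_of_column {g : G} (hg : g ≠ 1) {k : ℕ} (hk : k ≠ 0)
    (h : ∀ χ : IrrCharacter G, χ ≠ trivChar G → (χ : G → ℂ) g = 0 ∨ k ∣ charDegree (χ : G → ℂ)) :
    k = 1 := by
  have := Fintype.ofFinite (IrrCharacter G)
  have e := sum_degree_mul_apply_of_ne_one hg
  rw [← Finset.add_sum_erase _ _ (Finset.mem_univ (trivChar G))] at e
  simp only [trivChar_apply, one_mul] at e
  have key : ∀ χ ∈ Finset.univ.erase (trivChar G),
      IsIntegral ℤ ((χ : G → ℂ) 1 * (χ : G → ℂ) g / (k : ℂ)) := by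
    intro χ hχ
    rcases h χ (Finset.ne_of_mem_erase hχ) with h0 | ⟨r, hr⟩
    · simp [h0, isIntegral_zero]
    · rw [← cast_irrDegree χ, hr, Nat.cast_mul, mul_assoc,
        mul_div_cancel_left₀ _ (Nat.cast_ne_zero.2 hk)]
      exact (isIntegral_algebraMap (R := ℤ) (x := (r : ℤ))).mul
        (IsChar.isIntegral (IsIrr.isCharacter χ.2) _)
  have h2 := (IsIntegral.sum _ key).neg
  rw [← Finset.sum_div, ← neg_div, eq_neg_of_add_eq_zero_right e, neg_neg, ← Nat.cast_one] at h2
  exact Nat.dvd_one.1 (CfsgLib.CharIntegral.dvd_of_isIntegral_div hk h2)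

/-- No element has order `p l` for a prime `l ≠ p`. -/
theorem no_mixed (hp : p.Prime) (h3 : 3 ≤ p) (hq : q = p ^ 2) (hD : Degs G q)
    (hcard : 2 * Nat.card G = q * (q ^ 2 - 1)) {l : ℕ} (hl : l.Prime) (hlp : l ≠ p) {g : G}
    (hg : orderOf g = p * l) : False := by
  have := Fintype.ofFinite G
  have h9 : 9 ≤ q := by rw [hq]; nlinarith
  have hodd : p % 2 = 1 := (hp.eq_two_or_odd).resolve_left (by omega)
  have hq4 : q % 4 = 1 := by
    obtain ⟨k, hk⟩ : Odd p := Nat.odd_iff.2 hodd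
    have : q = 4 * (k * k + k) + 1 := by rw [hq, hk]; ring
    omega
  obtain ⟨h, hh⟩ : ∃ h, q + 1 = 2 * h := ⟨(q + 1) / 2, by omega⟩
  have hhodd : h % 2 = 1 := by omega
  have hn : Nat.card G = q * h * (q - 1) := by
    rw [show q ^ 2 - 1 = (q + 1) * (q - 1) by rw [← Nat.sq_sub_sq, one_pow], hh] at hcard
    have : 2 * Nat.card G = 2 * (q * h * (q - 1)) := by rw [hcard]; ring
    omega
  have hg1 : g ≠ 1 := fun e => by
    rw [e, orderOf_one] at hg
    exact hp.one_lt.ne' (Nat.eq_one_of_mul_eq_one_right hg.symm)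
  have hpg : p ∣ orderOf g := hg ▸ dvd_mul_right p l
  have hlg : l ∣ orderOf g := hg ▸ dvd_mul_left l p
  have hlq : ¬ l ∣ q := fun e => hlp ((Nat.prime_dvd_prime_iff_eq hl hp).1 (hl.dvd_of_dvd_pow (hq ▸ e)))
  have hvan : ∀ {r : ℕ} (χ : IrrCharacter G) (d m : ℕ), r.Prime → r ∣ orderOf g →
      charDegree (χ : G → ℂ) = d → 0 < d → Nat.card G = d * m → ¬ r ∣ m → (χ : G → ℂ) g = 0 := by
    intro r χ d m hr hrg hd hd0 hm hrm
    refine CfsgLib.Perm.ThreePrimeOrder.vanish_of_full hr (fun e => hrm ?_) hrg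
    rwa [hd, hm, Nat.mul_div_cancel_left _ hd0] at e
  have hst : ∀ χ : IrrCharacter G, charDegree (χ : G → ℂ) = q → (χ : G → ℂ) g = 0 := by
    intro χ hχ
    refine hvan χ q (h * (q - 1)) hp hpg hχ (by omega) (by rw [hn]; ring) fun e => ?_
    have hpq : p ∣ q := hq ▸ dvd_pow_self p two_ne_zero
    rcases hp.dvd_mul.1 e with e | e
    · have : p ∣ q + 1 := hh ▸ e.mul_left 2
      exact hp.not_dvd_one ((Nat.dvd_add_right hpq).1 this)
    · have := Nat.dvd_sub hpq e
      rw [show q - (q - 1) = 1 by omega] at this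
      exact hp.not_dvd_one this
  have hne1 : ∀ χ : IrrCharacter G, χ ≠ trivChar G → charDegree (χ : G → ℂ) ≠ 1 := by
    intro χ hχ e
    exact hχ (hD.unique χ _ (e.trans (by simp [charDegree, trivChar_apply])) (Or.inl e))
  have hln : l ∣ h * (q - 1) := by
    have : l ∣ Nat.card G := hlg.trans (orderOf_dvd_natCard g)
    rw [hn, mul_assoc] at this
    exact (hl.dvd_mul.1 this).resolve_left hlq
  have hdisj : l ∣ h → ¬ l ∣ q - 1 := fun e1 e2 => by
    have h3 : l ∣ (q + 1) - (q - 1) := Nat.dvd_sub (hh ▸ e1.mul_left 2) e2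
    rw [show (q + 1) - (q - 1) = 2 by omega] at h3
    obtain rfl := (Nat.prime_dvd_prime_iff_eq hl Nat.prime_two).1 h3
    omega
  rcases hl.dvd_mul.1 hln with hlh | hlm
  · have hl2 : l ≠ 2 := fun e => by subst e; omega
    have := eq_one_of_column hg1 (k := q - 1) (by omega) fun χ hχ => by
      rcases hD.cases χ with e | e | e | e | e
      · exact absurd e (hne1 χ hχ)
      · exact Or.inl (hst χ e)
      · refine Or.inl (hvan χ h (q * (q - 1)) hl hlg (by omega) (by omega) (by rw [hn]; ring)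
          fun e' => (hl.dvd_mul.1 e').elim hlq (hdisj hlh))
      · refine Or.inl (hvan χ (q + 1) (q * ((q - 1) / 2)) hl hlg e (by omega) ?_ fun e' => ?_)
        · rw [hn, hh]
          obtain ⟨u, hu⟩ : ∃ u, q - 1 = 2 * u := ⟨(q - 1) / 2, by omega⟩
          rw [hu, Nat.mul_div_cancel_left _ two_pos]
          ring
        · rcases hl.dvd_mul.1 e' with e' | e'
          · exact hlq e'
          · exact hdisj hlh (e'.trans (Nat.div_dvd_of_dvd (by omega)))
      · exact Or.inr ⟨1, by omega⟩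
    omega
  · have hlh : ¬ l ∣ h := fun e => hdisj e hlm
    have := eq_one_of_column hg1 (k := h) (by omega) fun χ hχ => by
      rcases hD.cases χ with e | e | e | e | e
      · exact absurd e (hne1 χ hχ)
      · exact Or.inl (hst χ e)
      · exact Or.inr ⟨1, by omega⟩
      · exact Or.inr ⟨2, by omega⟩
      · exact Or.inl (hvan χ (q - 1) (q * h) hl hlg (by omega) (by omega) (by rw [hn]; ring)
          fun e' => (hl.dvd_mul.1 e').elim hlq hlh)
    omega

/-- The centraliser of a `p`-element `x ≠ 1` is a `p`-group. -/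
theorem isPGroup_centralizer [Fact p.Prime]
    (hmix : ∀ (l : ℕ) (g : G), l.Prime → l ≠ p → orderOf g = p * l → False) {x : G} (hx : x ≠ 1)
    {k : ℕ} (hxk : orderOf x = p ^ k) : IsPGroup p (Subgroup.centralizer ({x} : Set G)) := by
  have hp : p.Prime := Fact.out
  have hk : k ≠ 0 := fun e => hx (orderOf_eq_one_iff.1 (by rw [hxk, e, pow_zero]))
  have hx' : orderOf (x ^ (p ^ (k - 1))) = p := by
    rw [orderOf_pow' _ (pow_ne_zero _ hp.ne_zero), hxk,
      Nat.gcd_eq_right (pow_dvd_pow p (Nat.sub_le k 1)), Nat.pow_div (Nat.sub_le k 1) hp.pos,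
      show k - (k - 1) = 1 by omega, pow_one]
  intro y
  suffices ∀ l, l.Prime → l ∣ orderOf (y : G) → l = p by
    obtain ⟨j, hj⟩ : ∃ j, orderOf (y : G) = p ^ j :=
      ⟨_, Nat.eq_prime_pow_of_unique_prime_dvd (orderOf_pos (y : G)).ne'
        fun {l} hl hld => this l hl hld⟩
    refine ⟨j, Subtype.ext ?_⟩
    rw [Subgroup.coe_pow, Subgroup.coe_one, ← hj]
    exact pow_orderOf_eq_one _
  intro l hl hld
  by_contra hlp
  have hy' : orderOf ((y : G) ^ (orderOf (y : G) / l)) = l :=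
    orderOf_pow_orderOf_div (orderOf_pos _).ne' hld
  have hcomm : Commute (x ^ (p ^ (k - 1))) ((y : G) ^ (orderOf (y : G) / l)) :=
    Commute.pow_pow (Subgroup.mem_centralizer_singleton_iff.1 y.2).symm _ _
  refine hmix l (x ^ (p ^ (k - 1)) * (y : G) ^ (orderOf (y : G) / l)) hl hlp ?_
  rw [hcomm.orderOf_mul_eq_mul_orderOf_of_coprime
    (by rw [hx', hy']; exact (Nat.coprime_primes hp hl).2 (Ne.symm hlp)), hx', hy']

end CfsgLib.Recog.PSLDegreeMultiset
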