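import Cfsg.Agent.Lib.Recog.PSLDegreeMultiset.Local
import Cfsg.Agent.Lib.Perm.ZassenhausPSL

/-!
# Recognition of `PSL(2, p²)` from its degree multiset: the group part
-/

set_option autoImplicit false

namespace CfsgLib.Recog.PSLDegreeMultiset

open Cfsg CfsgLib.Char CfsgLib.CharDegree MulAction
open scoped _root_.Classical

universe u

variable {G : Type u} [Group G] [Finite G] {p q : ℕ}

theorem isSimple (hp : p.Prime) (h3 : 3 ≤ p) (hq : q = p ^ 2) (hD : Degs G q)
    (hcard : 2 * Nat.card G = q * (q ^ 2 - 1)) : IsSimpleGroup G := by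
  have h9 : 9 ≤ q := by rw [hq]; nlinarith
  have hpos : 1 < Nat.card G := by
    have : 80 ≤ q ^ 2 - 1 := by have := Nat.pow_le_pow_left h9 2; omega
    have : 9 * 80 ≤ q * (q ^ 2 - 1) := Nat.mul_le_mul h9 this
    omega
  haveI : Nontrivial G := Finite.one_lt_card_iff_nontrivial.1 hpos
  refine IsSimpleGroup.mk fun N hN => ?_
  by_contra hcon
  push Not at hcon
  haveI : Nontrivial (G ⧸ N) := by
    rw [← Finite.one_lt_card_iff_nontrivial, ← Subgroup.index_eq_card]
    have h0 : N.index ≠ 0 := Subgroup.index_ne_zero_of_finite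
    have h1 : N.index ≠ 1 := fun e => hcon.2 (Subgroup.index_eq_one.1 e)
    omega
  have e := card_eq hp h3 hq (hD.quotient N) (hcard ▸ mul_dvd_mul_left 2 (Subgroup.card_quotient_dvd_card N))
  have e' := Subgroup.card_eq_card_quotient_mul_card_subgroup N
  have e2 : Nat.card (G ⧸ N) = Nat.card G := by omega
  rw [e2] at e'
  have : Nat.card N = 1 := by
    have h := (Nat.mul_eq_left (show Nat.card G ≠ 0 by omega)).1 e'.symm
    exact h
  exact hcon.1 (Subgroup.eq_bot_of_card_eq _ this)

/-- The action on the Sylow `p`-subgroups is a Zassenhaus action on `q + 1` points. -/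
theorem iso_psl (hp : p.Prime) (h3 : 3 ≤ p) (hq : q = p ^ 2) (hD : Degs G q)
    (hcard : 2 * Nat.card G = q * (q ^ 2 - 1)) :
    ∃ (K : Type) (_ : Field K) (_ : Fintype K), Fintype.card K = q ∧
      Nonempty (G ≃* Matrix.ProjectiveSpecialLinearGroup (Fin 2) K) := by
  haveI : Fact p.Prime := ⟨hp⟩
  haveI := isSimple hp h3 hq hD hcard
  have h9 : 9 ≤ q := by rw [hq]; nlinarith
  have hodd : p % 2 = 1 := (hp.eq_two_or_odd).resolve_left (by omega)
  have hq4 : q % 4 = 1 := by
    obtain ⟨k, hk⟩ : Odd p := Nat.odd_iff.2 hodd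
    have : q = 4 * (k * k + k) + 1 := by rw [hq, hk]; ring
    omega
  obtain ⟨h, hh⟩ : ∃ h, q + 1 = 2 * h := ⟨(q + 1) / 2, by omega⟩
  have hn : Nat.card G = q * (h * (q - 1)) := by
    rw [show q ^ 2 - 1 = (q + 1) * (q - 1) by rw [← Nat.sq_sub_sq, one_pow], hh] at hcard
    have : 2 * Nat.card G = 2 * (q * (h * (q - 1))) := by rw [hcard]; ring
    omega
  have hpq : p ∣ q := hq ▸ dvd_pow_self p two_ne_zero
  have hndvd : ¬ p ∣ h * (q - 1) := fun e => by
    rcases hp.dvd_mul.1 e with e | e
    · have h1 : p ∣ q + 1 := hh ▸ e.mul_left 2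
      exact hp.not_dvd_one ((Nat.dvd_add_right hpq).1 h1)
    · have := Nat.dvd_sub hpq e
      rw [show q - (q - 1) = 1 by omega] at this
      exact hp.not_dvd_one this
  have hPcard : ∀ P : Sylow p G, Nat.card (P : Subgroup G) = q := fun P => by
    have hne : h * (q - 1) ≠ 0 := fun e => hndvd (by rw [e]; exact dvd_zero p)
    rw [Sylow.card_eq_multiplicity, hn, Nat.factorization_mul (by omega) hne, Finsupp.add_apply,
      Nat.factorization_eq_zero_of_not_dvd hndvd, add_zero, hq, hp.factorization_pow,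
      Finsupp.single_eq_same]
  have hpart : ∀ P : Sylow p G, ∀ x ∈ (P : Subgroup G), x ≠ 1 →
      Subgroup.centralizer ({x} : Set G) = (P : Subgroup G) := by
    intro P x hx hx1
    obtain ⟨k, hk⟩ := IsPGroup.iff_orderOf.1 P.isPGroup' ⟨x, hx⟩
    rw [← Subgroup.orderOf_coe] at hk
    have hC : IsPGroup p (Subgroup.centralizer ({x} : Set G)) :=
      isPGroup_centralizer (fun l g hl hlp hg => no_mixed hp h3 hq hD hcard hl hlp hg) hx1 hk
    have hcomm : IsMulCommutative (P : Subgroup G) :=
      IsPGroup.isMulCommutative_of_card_eq_prime_sq (p := p) (by rw [hPcard P, hq])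
    refine P.is_maximal' hC fun y hy => Subgroup.mem_centralizer_singleton_iff.2 ?_
    exact congrArg Subtype.val (hcomm.1.1 (⟨y, hy⟩ : (P : Subgroup G)) ⟨x, hx⟩)
  have hTI : ∀ P Q : Sylow p G, ∀ x ∈ (P : Subgroup G), x ∈ (Q : Subgroup G) → x ≠ 1 → P = Q :=
    fun P Q x h1 h2 h0 => Sylow.ext ((hpart P x h1 h0).symm.trans (hpart Q x h2 h0))
  -- a Sylow subgroup fixes no other Sylow subgroup
  have hfree : ∀ P Q : Sylow p G, ∀ x ∈ (P : Subgroup G), x ≠ 1 → x • Q = Q → Q = P := by
    intro P Q x hx hx1 hfix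
    have hxN : x ∈ Subgroup.normalizer (Q : Set G) :=
      Sylow.smul_eq_iff_mem_normalizer.1 hfix
    have h1 : x ∈ (P : Subgroup G) ⊓ Subgroup.normalizer (Q : Set G) := ⟨hx, hxN⟩
    rw [P.isPGroup'.inf_normalizer_sylow Q] at h1
    exact hTI Q P x h1.2 hx hx1
  have hself : ∀ P : Sylow p G, ∀ x ∈ (P : Subgroup G), x • P = P := fun P x hx =>
    Sylow.smul_eq_iff_mem_normalizer.2 (Subgroup.le_normalizer hx)
  have : Fintype (Sylow p G) := Fintype.ofFinite _
  set m := Nat.card (Sylow p G) with hm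
  obtain ⟨P⟩ := (inferInstance : Nonempty (Sylow p G))
  -- the number of Sylow subgroups
  have hm1 : m ≠ 1 := fun e => by
    have := (Nat.card_eq_one_iff_unique.1 e).1
    have hc : (P : Subgroup G).Normal := by
      haveI := P.characteristic_of_subsingleton
      infer_instance
    rcases hc.eq_bot_or_eq_top with e0 | e0
    · have := hPcard P
      rw [e0, Subgroup.card_bot] at this
      omega
    · have := hPcard P
      rw [e0, Subgroup.card_top, hn] at this
      have hh2 : 2 ≤ h * (q - 1) := le_trans (show 2 ≤ 1 * (q - 1) by omega)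
        (Nat.mul_le_mul_right _ (by omega))
      have := Nat.mul_le_mul_left q hh2
      omega
  have hmod : q ∣ m + (q - 1) := by
    have : Fintype (P : Subgroup G) := Fintype.ofFinite _
    have : DecidableEq (P : Subgroup G) := Classical.decEq _
    have : ∀ g : ↥(P : Subgroup G), Fintype (fixedBy (Sylow p G) g) := fun g => Fintype.ofFinite _
    have : Fintype (orbitRel.Quotient ↥(P : Subgroup G) (Sylow p G)) := Fintype.ofFinite _
    have hb := sum_card_fixedBy_eq_card_orbits_mul_card_group (P : Subgroup G) (Sylow p G)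
    rw [← Finset.add_sum_erase _ _ (Finset.mem_univ (1 : (P : Subgroup G)))] at hb
    have h1 : Fintype.card (fixedBy (Sylow p G) (1 : (P : Subgroup G))) = m := by
      rw [← Nat.card_eq_fintype_card, hm]
      exact Nat.card_congr (Equiv.subtypeUnivEquiv fun Q => one_smul (P : Subgroup G) Q)
    have h2 : ∀ x ∈ (Finset.univ : Finset (P : Subgroup G)).erase 1,
        Fintype.card (fixedBy (Sylow p G) x) = 1 := fun x hx => by
      refine Fintype.card_eq_one_iff.2 ⟨⟨P, hself P x x.2⟩, fun Q => Subtype.ext ?_⟩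
      exact hfree P Q x x.2 (fun e => Finset.ne_of_mem_erase hx (Subtype.ext e)) Q.2
    rw [h1, Finset.sum_congr rfl h2, Finset.sum_const, smul_eq_mul, mul_one,
      Finset.card_erase_of_mem (Finset.mem_univ _), Finset.card_univ,
      ← Nat.card_eq_fintype_card (α := (P : Subgroup G)), hPcard P] at hb
    exact hb ▸ dvd_mul_left _ _
  set e := Nat.card (Subgroup.normalizer (P : Set G)) / q with he
  have hme : e * m = h * (q - 1) := by
    have h1 : q ∣ Nat.card (Subgroup.normalizer (P : Set G)) :=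
      hPcard P ▸ Subgroup.card_dvd_of_le Subgroup.le_normalizer
    have h2 : m * Nat.card (Subgroup.normalizer (P : Set G)) = Nat.card G := by
      rw [hm, P.card_eq_index_normalizer, mul_comm, Subgroup.card_mul_index]
    refine Nat.eq_of_mul_eq_mul_left (show 0 < q by omega) ?_
    rw [← hn, ← h2]
    conv_rhs => rw [← Nat.mul_div_cancel' h1]
    rw [he]; ring
  obtain ⟨hmq, he2⟩ : m = q + 1 ∧ 2 * e + 1 = q := by
    obtain ⟨t, ht⟩ := hmod
    have hmpos : 0 < m := hm ▸ Nat.card_pos
    have ht2 : 2 ≤ t := by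
      rcases (show t = 0 ∨ t = 1 ∨ 2 ≤ t by omega) with rfl | rfl | h <;> omega
    have hq2t : q * 2 ≤ q * t := Nat.mul_le_mul_left q ht2
    have hzm : (m : ℤ) = q * t - q + 1 := by
      have : (m : ℤ) + ((q - 1 : ℕ) : ℤ) = q * t := by exact_mod_cast ht
      rw [Nat.cast_sub (show 1 ≤ q by omega), Nat.cast_one] at this
      linarith
    have hz : 2 * (e : ℤ) * m = ((q : ℤ) + 1) * ((q : ℤ) - 1) := by
      have h1 : (e : ℤ) * m = h * ((q - 1 : ℕ) : ℤ) := by exact_mod_cast hme
      have h2 : (q : ℤ) + 1 = 2 * h := by exact_mod_cast hh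
      rw [Nat.cast_sub (show 1 ≤ q by omega), Nat.cast_one] at h1
      rw [h2]; linear_combination 2 * h1
    have hd : (q : ℤ) ∣ 2 * e + 1 := ⟨(q : ℤ) - 2 * e * (t - 1), by
      rw [hzm] at hz; linear_combination hz⟩
    have hle : 2 * e + 1 ≤ q := by
      have h1 : (e : ℤ) * (q + 1) ≤ e * m :=
        mul_le_mul_of_nonneg_left (by exact_mod_cast (show q + 1 ≤ m by omega)) (by positivity)
      have h2 : ((q : ℤ) + 1) * (2 * e) ≤ ((q : ℤ) + 1) * ((q : ℤ) - 1) := by linarith
      have := le_of_mul_le_mul_left h2 (by positivity)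
      omega
    have hge := Nat.le_of_dvd (Nat.succ_pos _) (show q ∣ 2 * e + 1 by exact_mod_cast hd)
    refine ⟨?_, by omega⟩
    have h3 : ((q : ℤ) - 1) * m = ((q : ℤ) - 1) * ((q : ℤ) + 1) := by
      have : 2 * (e : ℤ) = (q : ℤ) - 1 := by omega
      rw [this] at hz; linarith
    exact_mod_cast mul_left_cancel₀ (by omega) h3
  have hΩ : Fintype.card (Sylow p G) = q + 1 := by rw [← Nat.card_eq_fintype_card, ← hm, hmq]
  -- regularity on the other points
  have hinj : ∀ R a : Sylow p G, a ≠ R → Function.Injective fun x : (R : Subgroup G) => (x : G) • a := by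
    intro R a ha x y hxy
    by_contra hne
    refine ha (hfree R a _ (mul_mem (inv_mem y.2) x.2) (fun e => hne (Subtype.ext ?_)) ?_)
    · exact (inv_mul_eq_one.1 e).symm
    · rw [mul_smul, inv_smul_eq_iff]; exact hxy
  have htr : ∀ R a b : Sylow p G, a ≠ R → b ≠ R → ∃ x ∈ (R : Subgroup G), x • a = b := by
    intro R a b ha hb
    have : Fintype (R : Subgroup G) := Fintype.ofFinite _
    let f : ↥(R : Subgroup G) → {Q : Sylow p G // Q ≠ R} := fun x => ⟨(x : G) • a, fun e =>
      ha (MulAction.injective (x : G) (e.trans (hself R x x.2).symm))⟩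
    have hf : Function.Injective f := fun x y e => hinj R a ha (congrArg Subtype.val e)
    have hc : Fintype.card (R : Subgroup G) = Fintype.card {Q : Sylow p G // Q ≠ R} := by
      rw [← Nat.card_eq_fintype_card, hPcard R, Fintype.card_subtype_compl, Fintype.card_subtype_eq,
        hΩ]
      omega
    obtain ⟨x, hx⟩ := ((Fintype.bijective_iff_injective_and_card f).2 ⟨hf, hc⟩).2 ⟨b, hb⟩
    exact ⟨x, x.2, congrArg Subtype.val hx⟩
  have hpre : ∀ a b c d : Sylow p G, a ≠ b → c ≠ d → ∃ g : G, g • a = c ∧ g • b = d := by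
    intro a b c d hab hcd
    obtain ⟨g, hg⟩ := exists_smul_eq G a c
    have hb : g • b ≠ c := fun e => hab (MulAction.injective g (hg.trans e.symm))
    obtain ⟨x, hx, hxd⟩ := htr c (g • b) d hb hcd.symm
    exact ⟨x * g, by rw [mul_smul, hg, hself c x hx], by rw [mul_smul, hxd]⟩
  -- faithful
  haveI hfaith : FaithfulSMul G (Sylow p G) := by
    have hk : (MulAction.toPermHom G (Sylow p G)).ker = ⊥ := by
      refine ((MonoidHom.normal_ker _).eq_bot_or_eq_top).resolve_right fun e => hm1 ?_
      refine Nat.card_eq_one_iff_unique.2 ⟨⟨fun a b => ?_⟩, inferInstance⟩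
      obtain ⟨g, hg⟩ := exists_smul_eq G a b
      have : g ∈ (MulAction.toPermHom G (Sylow p G)).ker := e ▸ Subgroup.mem_top g
      rw [← hg]
      exact (congrArg (fun σ : Equiv.Perm (Sylow p G) => σ a) (MonoidHom.mem_ker.1 this)).symm
    refine ⟨fun {g g'} hgg => inv_mul_eq_one.1 (Subgroup.mem_bot.1 (hk ▸ MonoidHom.mem_ker.2 ?_)) |>.symm⟩
    refine Equiv.ext fun a => ?_
    show (g'⁻¹ * g) • a = a
    rw [mul_smul, hgg, inv_smul_smul]
  obtain ⟨a, b, hab⟩ : ∃ a b : Sylow p G, a ≠ b :=
    Fintype.exists_pair_of_one_lt_card (by omega)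
  set E := stabilizer G a ⊓ stabilizer G b with hE
  have hEcard : Nat.card E = e := by
    have hS : Nat.card (stabilizer G a) = q * e := by
      have h1 := Subgroup.card_mul_index (stabilizer G a)
      rw [index_stabilizer_of_transitive, Nat.card_eq_fintype_card (α := Sylow p G), hΩ, hn,
        ← hme, hmq] at h1
      exact Nat.eq_of_mul_eq_mul_right (show 0 < q + 1 by omega) (h1.trans (by ring))
    have h2 : Nat.card (orbit (stabilizer G a) b) = q := by
      have e1 : orbit (stabilizer G a) b = {a}ᶜ := by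
        ext c
        simp only [Set.mem_compl_iff, Set.mem_singleton_iff, mem_orbit_iff]
        refine ⟨?_, fun hc => ?_⟩
        · rintro ⟨⟨g, hg⟩, rfl⟩ hc
          exact hab (MulAction.injective g ((mem_stabilizer_iff.1 hg).trans hc.symm))
        · obtain ⟨x, hx, hxb⟩ := htr a b c hab.symm hc
          exact ⟨⟨x, hself a x hx⟩, hxb⟩
      rw [e1, Nat.card_coe_set_eq, Set.ncard_compl, Set.ncard_singleton,
        Nat.card_eq_fintype_card (α := Sylow p G), hΩ]
      omega
    have h3 : Nat.card (stabilizer (stabilizer G a) b) = Nat.card E := by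
      refine Nat.card_congr ⟨fun g => ⟨g.1.1, g.1.2, g.2⟩, fun g => ⟨⟨g.1, g.2.1⟩, g.2.2⟩,
        fun g => rfl, fun g => rfl⟩
    have h4 := Subgroup.card_mul_index (stabilizer (stabilizer G a) b)
    rw [index_stabilizer, ← Nat.card_coe_set_eq, h2, h3, hS, mul_comm q e] at h4
    exact Nat.eq_of_mul_eq_mul_right (show 0 < q by omega) h4
  have hthree : ∀ g : G, ∀ a b c : Sylow p G, a ≠ b → b ≠ c → a ≠ c →
      g • a = a → g • b = b → g • c = c → g = 1 := by
    intro g a b c hab hbc hac ga gb gc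
    obtain ⟨u, hu, hub⟩ := htr a b c hab.symm hac.symm
    have hgu : g * u * g⁻¹ ∈ (a : Subgroup G) :=
      (Subgroup.mem_normalizer_iff.1 (Sylow.smul_eq_iff_mem_normalizer.1 ga) u).1 hu
    have heq : (⟨g * u * g⁻¹, hgu⟩ : (a : Subgroup G)) = ⟨u, hu⟩ := by
      refine hinj a b hab.symm ?_
      show (g * u * g⁻¹) • b = u • b
      rw [mul_smul, mul_smul, inv_smul_eq_iff.2 gb.symm, hub, gc]
    have hcomm : g * u = u * g := mul_inv_eq_iff_eq_mul.1 (congrArg Subtype.val heq)
    have hga : g ∈ (a : Subgroup G) := by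
      rw [← hpart a u hu (fun e => hbc (by rw [← hub, e, one_smul]))]
      exact Subgroup.mem_centralizer_singleton_iff.2 hcomm
    by_contra hg1
    exact hab (hfree a b g hga hg1 gb).symm
  have hZ : IsZassenhausGroup G (Sylow p G) := by
    refine ⟨hfaith, ?_, hthree, ?_, fun N hN hNt => ?_⟩
    · rw [MulAction.is_two_pretransitive_iff]
      exact fun {a b c d} hab hcd => hpre a b c d hab hcd
    · have : E ≠ ⊥ := fun e' => by rw [e', Subgroup.card_bot] at hEcard; omega
      obtain ⟨g, hg, hg1⟩ := (Subgroup.bot_or_exists_ne_one E).resolve_left this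
      exact ⟨g, hg1, a, b, hab, hg.1, hg.2⟩
    · refine ⟨a, fun e' => ?_⟩
      rcases hN.eq_bot_or_eq_top with rfl | rfl
      · obtain ⟨⟨g, hg⟩, hga⟩ := MulAction.exists_smul_eq (⊥ : Subgroup G) a b
        rw [Subgroup.mem_bot] at hg
        subst hg
        exact hab (by simpa using hga)
      · obtain ⟨x, hx, hx1⟩ : ∃ x ∈ (a : Subgroup G), x ≠ 1 :=
          (Subgroup.bot_or_exists_ne_one (a : Subgroup G)).resolve_left fun e0 => by
            have := hPcard a; rw [e0, Subgroup.card_bot] at this; omega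
        have h1 : (⟨x, Subgroup.mem_top x⟩ : (⊤ : Subgroup G)) ∈ stabilizer (⊤ : Subgroup G) a :=
          hself a x hx
        rw [e', Subgroup.mem_bot] at h1
        exact hx1 (congrArg Subtype.val h1)
  obtain ⟨p', f, K, hK, hKf, -, -, hKc, hKΩ, hiso⟩ :=
    CfsgLib.Perm.iso_psl_of_half hZ hab (by rw [← hE, hEcard]; exact ⟨e / 2, by omega⟩)
      (by rw [← hE, hEcard, hΩ]; omega)
  exact ⟨K, hK, hKf, by omega, hiso⟩

end CfsgLib.Recog.PSLDegreeMultiset
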