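import Cfsg.Prelude.Def_Characters
import Cfsg.Agent.Lib.Known.SL2Char.PSLDegrees
import Cfsg.Agent.Lib.CharDegree.Basic

/-!
# The degree multiset of `PSL(2, q)`, `q ≡ 1 (mod 4)`
-/

set_option autoImplicit false

namespace CfsgLib.Recog.PSLDegreeMultiset

open Matrix CfsgLib.Char CfsgLib.PLocal.SLTwo CfsgLib.SL2Char

variable {F : Type*} [Field F] [Fintype F]

/-- The irreducible characters: trivial, Steinberg, or of degree `(q + 1) / 2`, `q + 1`, `q - 1`. -/
theorem psl_cases [DecidableEq F] [Fintype (S2 F)] (hq : Fintype.card F % 4 = 1)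
    (χ : Cfsg.IrrCharacter (Matrix.ProjectiveSpecialLinearGroup (Fin 2) F)) :
    ∃ d : ℕ, Cfsg.charDegree (χ : Matrix.ProjectiveSpecialLinearGroup (Fin 2) F → ℂ) = d ∧
      ((d = 1 ∧ ∀ g : S2 F, χ.1 (QuotientGroup.mk g) = 1) ∨
        (d = Fintype.card F ∧ ∀ g : S2 F, χ.1 (QuotientGroup.mk g) = stSL g) ∨
        2 * d = Fintype.card F + 1 ∨ d = Fintype.card F + 1 ∨ d + 1 = Fintype.card F) := by
  classical
  have := Fintype.ofFinite (Orbits (⊥ : Subgroup Fˣ))
  obtain ⟨g₀, hg₀⟩ := exists_elliptic (F := F)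
  have := Fintype.ofFinite (Matrix.GeneralLinearGroup (Fin 2) F)
  obtain ⟨ψ, hψ⟩ := exists_addChar (F := F)
  have hodd : Odd (Fintype.card F) := Nat.odd_iff.2 (by omega)
  have h2 : ringChar F ≠ 2 := fun h => by
    have := FiniteField.even_card_iff_char_two.1 h
    omega
  have hqc : qcC F (-1) = 1 := by
    rw [qcC_neg_one hodd h2]
    exact Even.neg_one_pow (Nat.even_iff.2 (by omega))
  obtain ⟨θ₀, a, b, c, d, P, C, -, -, -, -, -, -, ha, hb, hc, hd, -, -, -, -, -, vP, vC, -, -, -,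
    hall⟩ := tableSLOdd hg₀ hψ hodd
  let f : S2 F → ℂ := fun g => χ.1 (QuotientGroup.mk g)
  have hf : Cfsg.IsIrrCharacter (S2 F) f :=
    IsIrr.comp_surjective (QuotientGroup.mk' (Subgroup.center (S2 F)))
      (QuotientGroup.mk'_surjective _) χ.2
  have hm1 : f (-1) = f 1 := by
    show χ.1 _ = χ.1 _
    have hc1 : (-1 : S2 F) ∈ Subgroup.center (S2 F) :=
      Subgroup.mem_center_iff.2 fun y => Subtype.ext (by simp)
    rw [(QuotientGroup.eq_one_iff (-1 : S2 F)).2 hc1, QuotientGroup.mk_one]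
  refine ⟨_, rfl, ?_⟩
  have hdeg : f 1 = (Cfsg.charDegree (χ : Matrix.ProjectiveSpecialLinearGroup (Fin 2) F → ℂ) : ℂ) := by
    rw [CfsgLib.CharDegree.cast_irrDegree χ]
    exact congrArg χ.1 (QuotientGroup.mk_one _)
  generalize hn : Cfsg.charDegree (χ : Matrix.ProjectiveSpecialLinearGroup (Fin 2) F → ℂ) = n at hdeg ⊢
  have hhalf : ∀ {X g : S2 F → ℂ}, Half ψ 1 (qcC F (-1)) X g → f = g →
      2 * n = Fintype.card F + 1 := fun h e => by
    have e1 := h.deg
    rw [← e, hdeg] at e1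
    push_cast at e1
    exact_mod_cast e1
  have hnot : ∀ {X g : S2 F → ℂ}, Half ψ (-1) (-qcC F (-1)) X g → f ≠ g := fun h e => by
    have e1 := h.neg 1
    rw [← e, hm1, hqc] at e1
    have e2 := h.deg
    rw [← e] at e2
    have e3 : f 1 = 0 := by linear_combination e1 / 2
    rw [e3] at e2
    push_cast at e2
    have e4 : (Fintype.card F : ℂ) = 1 := by linear_combination -e2
    have : Fintype.card F = 1 := by exact_mod_cast e4
    exact absurd this Fintype.one_lt_card.ne'
  rcases (hall f).1 hf with e | e | h | h | e | e | e | e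
  · refine Or.inl ⟨?_, fun g => by simpa using congrFun e g⟩
    rw [e] at hdeg
    exact_mod_cast (by simpa using hdeg.symm : (n : ℂ) = 1)
  · refine Or.inr (Or.inl ⟨?_, fun g => congrFun e g⟩)
    rw [e, stSL_one] at hdeg
    exact_mod_cast hdeg.symm
  · refine Or.inr (Or.inr (Or.inr (Or.inl ?_)))
    have e1 := (vP f h).2
    rw [hdeg] at e1
    exact_mod_cast e1
  · refine Or.inr (Or.inr (Or.inr (Or.inr ?_)))
    have e1 := (vC f h).2
    rw [hdeg] at e1
    have e2 : ((n + 1 : ℕ) : ℂ) = (Fintype.card F : ℂ) := by push_cast; linear_combination e1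
    exact_mod_cast e2
  · exact Or.inr (Or.inr (Or.inl (hhalf ha e)))
  · exact Or.inr (Or.inr (Or.inl (hhalf hb e)))
  · exact absurd e (hnot hc)
  · exact absurd e (hnot hd)

/-- The degrees, with one character of degree `1` and one of degree `q`. -/
theorem psl_degree_facts (hq : Fintype.card F % 4 = 1) :
    (∀ χ : Cfsg.IrrCharacter (Matrix.ProjectiveSpecialLinearGroup (Fin 2) F),
      Cfsg.charDegree (χ : Matrix.ProjectiveSpecialLinearGroup (Fin 2) F → ℂ) = 1 ∨
      Cfsg.charDegree (χ : Matrix.ProjectiveSpecialLinearGroup (Fin 2) F → ℂ) = Fintype.card F ∨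
      2 * Cfsg.charDegree (χ : Matrix.ProjectiveSpecialLinearGroup (Fin 2) F → ℂ) = Fintype.card F + 1 ∨
      Cfsg.charDegree (χ : Matrix.ProjectiveSpecialLinearGroup (Fin 2) F → ℂ) = Fintype.card F + 1 ∨
      Cfsg.charDegree (χ : Matrix.ProjectiveSpecialLinearGroup (Fin 2) F → ℂ) + 1 = Fintype.card F) ∧
    ∀ χ φ : Cfsg.IrrCharacter (Matrix.ProjectiveSpecialLinearGroup (Fin 2) F),
      Cfsg.charDegree (χ : Matrix.ProjectiveSpecialLinearGroup (Fin 2) F → ℂ) =
        Cfsg.charDegree (φ : Matrix.ProjectiveSpecialLinearGroup (Fin 2) F → ℂ) →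
      (Cfsg.charDegree (χ : Matrix.ProjectiveSpecialLinearGroup (Fin 2) F → ℂ) = 1 ∨
        Cfsg.charDegree (χ : Matrix.ProjectiveSpecialLinearGroup (Fin 2) F → ℂ) = Fintype.card F) →
      χ = φ := by
  classical
  have := Fintype.ofFinite (S2 F)
  have h5 : 5 ≤ Fintype.card F := by
    have := Fintype.one_lt_card (α := F)
    omega
  refine ⟨fun χ => ?_, fun χ φ he h => ?_⟩
  · obtain ⟨d, hd, h⟩ := psl_cases hq χ
    rw [hd]
    rcases h with h | h | h
    exacts [Or.inl h.1, Or.inr (Or.inl h.1), Or.inr (Or.inr h)]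
  · obtain ⟨d, hd, h1⟩ := psl_cases hq χ
    obtain ⟨e, he', h2⟩ := psl_cases hq φ
    rw [hd] at he h
    rw [he'] at he
    refine irr_ext fun x => ?_
    induction x using QuotientGroup.induction_on with
    | H g =>
      rcases h with h | h <;>
        rcases h1 with ⟨_, k⟩ | ⟨_, k⟩ | k | k | k <;>
        first
          | omega
          | (rcases h2 with ⟨_, k'⟩ | ⟨_, k'⟩ | k' | k' | k' <;> first
              | omega
              | exact (k g).trans (k' g).symm)

end CfsgLib.Recog.PSLDegreeMultiset
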